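import Groth.Agent.EtAdic.K112.LHConst
import Groth.Agent.Etrest.DEtPush

/-!
# Hypercohomology of a derived direct image

`card_push`: the order of `H^t(Y, Rf_* G)` is the order of `H^t(X, G)`.
-/

set_option autoImplicit false
set_option linter.unusedSectionVars false
universe u

open CategoryTheory CategoryTheory.Limits AlgebraicGeometry Opposite DerivedCategory
open CategoryTheory.Pretriangulated
open scoped Groth.Agent.Etcore.EtInst
open Groth.Agent.Etcore.EtInst Groth.Agent.Etcore.HpullCalc Groth.Agent.Etcore.HC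

attribute [local instance] HasDerivedCategory.standard

namespace K523.CardPush

open Groth.Agent.Sga4h.LPull Groth.Agent.Sga7.H754.HDer Groth.Agent.Lefpen.H710.BettiSys K112.LH
open Groth.Agent.Etrest.DEtPush

/-- morphisms from a left adjoint image to a shifted object -/
theorem nonempty_equiv {A B : Type*} [Category* A] [Category* B] [HasShift A ℤ] [HasShift B ℤ]
    {F : A ⥤ B} {G : B ⥤ A} (adj : F ⊣ G) [F.CommShift ℤ] (Z : A) (K : B) (n : ℤ) :
    Nonempty ((Z ⟶ (G.obj K)⟦n⟧) ≃ (F.obj Z ⟶ K⟦n⟧)) :=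
  ⟨((Iso.refl Z).homCongr ((Adjunction.RightAdjointCommShift.iso adj n).app K).symm).trans
    (adj.homEquiv Z (K⟦n⟧)).symm⟩

theorem card_push {X Y : Scheme.{u}} (f : X ⟶ Y) (G : EtCoh.Ab X) (t : ℕ) :
    K112.LH.cd (K112.LH.FH Y) (t : ℤ) ((pushD f).obj (S0 G)) = Nat.card (HH X G t) := by
  obtain ⟨e₁⟩ := nonempty_equiv (dPullPush f) (Z0 Y) (S0 G) (t : ℤ)
  have e₂ : ((pullD f).obj (Z0 Y) ⟶ (S0 G)⟦(t : ℤ)⟧) ≃ (Z0 X ⟶ (S0 G)⟦(t : ℤ)⟧) :=
    (LZ0 f).homCongr (Iso.refl _)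
  obtain ⟨e₃⟩ := hs_ext G t
  exact Nat.card_congr ((e₁.trans e₂).trans e₃)

end K523.CardPush
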