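import Groth.Agent.EtAdic.K112.LHConst

/-!
# Hypercohomology of a constant sheaf of functions on a finite set, and of a derived direct image

`cd_pi`: the order of `H^j(Y, M^b)` is the `b`-th power of the order of `H^j(Y, M)`.
-/

set_option autoImplicit false
set_option linter.unusedSectionVars false
universe u

open CategoryTheory CategoryTheory.Limits AlgebraicGeometry Opposite DerivedCategory
open CategoryTheory.Pretriangulated
open scoped Groth.Agent.Etcore.EtInst
open Groth.Agent.Etcore.EtInst Groth.Agent.Etcore.HpullCalc Groth.Agent.Etcore.HC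

attribute [local instance] HasDerivedCategory.standard

namespace K523.CdPi

open Groth.Agent.Sga4h.LPull Groth.Agent.Sga7.H754.HDer Groth.Agent.Lefpen.H710.BettiSys K112.LH

theorem hom_sum_apply {ι : Type*} {X Y : AddCommGrpCat} (s : Finset ι) (f : ι → (X ⟶ Y)) (x : X) :
    (∑ t ∈ s, f t).hom x = ∑ t ∈ s, (f t).hom x := by
  classical
  induction s using Finset.induction_on with
  | empty => rw [Finset.sum_empty, Finset.sum_empty]; rfl
  | insert a s ha ih => rw [Finset.sum_insert ha, Finset.sum_insert ha, ← ih]; rfl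

/-- an additive functor to abelian groups takes a finite power to the power -/
theorem card_of_sum {C : Type*} [Category* C] [Preadditive C] (G : C ⥤ AddCommGrpCat) [G.Additive]
    {A B : C} (b : ℕ) (p : Fin b → (A ⟶ B)) (i : Fin b → (B ⟶ A))
    (h1 : ∀ s, i s ≫ p s = 𝟙 B) (h2 : ∀ s t, s ≠ t → i s ≫ p t = 0) (h3 : ∑ s, p s ≫ i s = 𝟙 A) :
    Nat.card (G.obj A) = Nat.card (G.obj B) ^ b := by
  have e : G.obj A ≃ (Fin b → G.obj B) :=
    { toFun := fun x s => (G.map (p s)).hom x
      invFun := fun y => ∑ s, (G.map (i s)).hom (y s)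
      left_inv := fun x => by
        have h4 : G.map (∑ s, p s ≫ i s) = 𝟙 _ := by rw [h3, G.map_id]
        rw [G.map_sum] at h4
        have h5 : (∑ s, G.map (p s ≫ i s)).hom x = x := congrArg (fun f => f.hom x) h4
        rw [hom_sum_apply] at h5
        refine Eq.trans (Finset.sum_congr rfl fun s _ => ?_) h5
        rw [G.map_comp]
        rfl
      right_inv := fun y => by
        funext t
        change (G.map (p t)).hom (∑ s, (G.map (i s)).hom (y s)) = y t
        rw [map_sum, Finset.sum_eq_single t]
        · have h4 : G.map (i t ≫ p t) = 𝟙 _ := by rw [h1, G.map_id]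
          rw [G.map_comp] at h4
          exact congrArg (fun f => f.hom (y t)) h4
        · intro s _ hs
          have h4 : G.map (i s ≫ p t) = 0 := by rw [h2 s t hs, G.map_zero]
          rw [G.map_comp] at h4
          exact congrArg (fun f => f.hom (y s)) h4
        · intro h
          exact absurd (Finset.mem_univ t) h }
  rw [Nat.card_congr e, Nat.card_fun, Nat.card_eq_fintype_card (α := Fin b), Fintype.card_fin]

theorem ul_sum {A B : Type} [AddCommGroup A] [AddCommGroup B] {ι : Type*} (s : Finset ι) (φ : ι → (A →+ B)) :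
    ul.{u} (∑ t ∈ s, φ t) = ∑ t ∈ s, ul.{u} (φ t) := by
  classical
  induction s using Finset.induction_on with
  | empty => rw [Finset.sum_empty, Finset.sum_empty]; rfl
  | insert a s ha ih => rw [Finset.sum_insert ha, Finset.sum_insert ha, ← ih]; rfl

theorem cd_pi (Y : Scheme.{u}) (M : Type) [AddCommGroup M] (b : ℕ) (j : ℤ) :
    K112.LH.cd (K112.LH.FH Y) j (S0 (EtCoh.const Y (Fin b → M))) =
      K112.LH.cd (K112.LH.FH Y) j (S0 (EtCoh.const Y M)) ^ b := by
  have hc := additive_constantSheaf Y
  have : ((FH Y).shift j).Additive := inferInstance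
  let G : EtCoh.Ab Y ⥤ AddCommGrpCat := singleFunctor (EtCoh.Ab Y) 0 ⋙ (FH Y).shift j
  have hG : G.Additive := inferInstance
  refine card_of_sum G b (fun s => cm Y (Pi.evalAddMonoidHom (fun _ => M) s))
    (fun s => cm Y (AddMonoidHom.single (fun _ => M) s)) ?_ ?_ ?_
  · intro s
    rw [cm_comp]
    have h : (Pi.evalAddMonoidHom (fun _ : Fin b => M) s).comp (AddMonoidHom.single (fun _ => M) s) =
        (1 : ℤ) • AddMonoidHom.id M := by
      ext x
      simp
    rw [h, cm_zsmul_id, one_smul]
  · intro s t hst
    rw [cm_comp]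
    have h : (Pi.evalAddMonoidHom (fun _ : Fin b => M) t).comp (AddMonoidHom.single (fun _ => M) s) =
        (0 : ℤ) • AddMonoidHom.id M := by
      ext x
      simp [Pi.single_eq_of_ne hst.symm]
    rw [h, cm_zsmul_id, zero_smul]
  · have h0 : ∀ s, cm Y (Pi.evalAddMonoidHom (fun _ : Fin b => M) s) ≫ cm Y (AddMonoidHom.single (fun _ => M) s) =
        (constantSheaf Y.smallEtaleTopology AddCommGrpCat.{u + 1}).map (ul.{u}
          ((AddMonoidHom.single (fun _ => M) s).comp (Pi.evalAddMonoidHom (fun _ : Fin b => M) s))) := fun s => by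
      rw [cm_comp]; rfl
    rw [Finset.sum_congr rfl fun s _ => h0 s, ← Functor.map_sum, ← ul_sum]
    have h : ∑ s, (AddMonoidHom.single (fun _ => M) s).comp (Pi.evalAddMonoidHom (fun _ : Fin b => M) s) =
        (1 : ℤ) • AddMonoidHom.id (Fin b → M) := by
      rw [one_smul]
      refine AddMonoidHom.ext fun x => ?_
      rw [AddMonoidHom.finsetSum_apply]
      exact Finset.univ_sum_single x
    rw [h]
    have h2 := cm_zsmul_id Y (A := Fin b → M) 1
    rw [one_smul ℤ (𝟙 _)] at h2
    exact h2

end K523.CdPi
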